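import Groth.Agent.GrpdSplit.Restrict
import Groth.Agent.S1617
import Groth.Agent.S1883
import Groth.Agent.S1887
import Groth.Agent.FibFlat.Stalk
import Groth.Agent.Triage.CMMor
import Groth.Agent.LC.ExtDim
import Groth.Agent.VarDim.Basic

/-!
# Dimension of the orbit fibre at a unit against the stabilizer
-/

set_option autoImplicit false
set_option linter.style.haveILetI false
set_option backward.isDefEq.respectTransparency false
set_option backward.isDefEq.respectTransparency.types false
universe u

open AlgebraicGeometry CategoryTheory CategoryTheory.Limits IsLocalRing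

namespace Groth.Agent.GrpdSlice

variable {X Y S : Scheme.{u}}

/-- A rational point of a scheme locally of finite type over a field is closed. -/
theorem isClosed_of_section (k : Type u) [Field k] (π : X ⟶ Spec (CommRingCat.of k)) [LocallyOfFiniteType π]
    (σ : Spec (CommRingCat.of k) ⟶ X) (h : σ ≫ π = 𝟙 _) (z : Spec (CommRingCat.of k)) :
    IsClosed ({σ z} : Set X) := by
  haveI : JacobsonSpace X := LocallyOfFiniteType.jacobsonSpace π
  haveI : LocallyOfFiniteType (σ ≫ π) := by rw [h]; infer_instance
  haveI : LocallyOfFiniteType σ := locallyOfFiniteType_of_comp σ π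
  have hz : IsClosed ({z} : Set (Spec (CommRingCat.of k))) := by
    rw [show z = IsLocalRing.closedPoint k from @Subsingleton.elim (PrimeSpectrum k) _ z _]
    exact IsLocalRing.isClosed_singleton_closedPoint k
  exact σ.closePoints_subset_preimage_closedPoints hz

/-- The local dimension of a fibre at a closed point is the dimension of its local ring. -/
theorem fibreDimAt_eq (f : X ⟶ Y) [LocallyOfFiniteType f] (x : X) (y : Y) (h : f x = y) (w : ↥(f.fiber y))
    (hw : f.fiberι y w = x) (hc : IsClosed ({w} : Set ↥(f.fiber y))) :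
    FlatMor.fibreDimAt f x = ringKrullDim ((f.fiber y).presheaf.stalk w) := by
  subst h
  obtain rfl : w = f.asFiber x :=
    (f.fiberι (f x)).isEmbedding.injective (hw.trans (f.fiberι_asFiber x).symm)
  letI : (f.fiber (f x)).Over (Spec (CommRingCat.of (Y.residueField (f x)))) :=
    ⟨f.fiberToSpecResidueField (f x)⟩
  haveI : LocallyOfFiniteType ((f.fiber (f x)) ↘ (Spec (CommRingCat.of (Y.residueField (f x))))) :=
    inferInstanceAs (LocallyOfFiniteType (pullback.snd f (Y.fromSpecResidueField (f x))))
  exact S1617.result (Y.residueField (f x)) (f.fiber (f x)) (f.asFiber x) hc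

theorem ringKrullDim_stalk_le (k : Type u) [Field k] (π : X ⟶ Spec (CommRingCat.of k)) [LocallyOfFiniteType π]
    (x : X) (hc : IsClosed ({x} : Set X)) : ringKrullDim (X.presheaf.stalk x) ≤ topologicalKrullDim X := by
  letI : X.Over (Spec (CommRingCat.of k)) := ⟨π⟩
  haveI : LocallyOfFiniteType (X ↘ (Spec (CommRingCat.of k))) := ‹LocallyOfFiniteType π›
  rw [← S1617.result k X x hc]
  exact (iInf_le _ (⟨⊤, trivial⟩ : {U : TopologicalSpace.Opens X // x ∈ U})).trans
    (topologicalKrullDim_subspace_le X _)

open Grpd Groth.Agent.AlgStLib.QuotRestrict in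
/-- The arrows from a point to itself have the dimension of the stabilizer at that point, and so do
all their local rings at closed points. -/
theorem dim_orbitFibre_aux (G : GroupoidScheme S) [LocallyOfFiniteType G.s] [LocallyOfFiniteType G.t] (u : G.U)
    [hu : LocallyOfFiniteType (G.U.fromSpecResidueField u)] :
    topologicalKrullDim ↥((G.s.fiberι u ≫ G.t).fiber u) = topologicalKrullDim ↥(G.stabilizerToU.fiber u) ∧
      ∀ x : ↥((G.s.fiberι u ≫ G.t).fiber u), IsClosed ({x} : Set ↥((G.s.fiberι u ≫ G.t).fiber u)) →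
        ringKrullDim (((G.s.fiberι u ≫ G.t).fiber u).presheaf.stalk x) =
          topologicalKrullDim ↥(G.stabilizerToU.fiber u) := by
  let q := G.U.fromSpecResidueField u
  obtain ⟨G', φ, i, hi, hiq, hj⟩ := GrpdSplit.exists_restriction G q
  haveI := hi
  haveI hfU : Mono φ.fU := by rw [← hiq]; infer_instance
  haveI hfUl : LocallyOfFiniteType φ.fU := by rw [← hiq]; infer_instance
  let m := pullback.map G'.pU G'.pU G.pU G.pU φ.fU φ.fU (𝟙 S)
    ((Category.comp_id _).trans φ.fU_over.symm) ((Category.comp_id _).trans φ.fU_over.symm)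
  haveI : Mono m := ⟨fun a b hab => by
    apply pullback.hom_ext
    · have := congrArg (· ≫ pullback.fst G.pU G.pU) hab
      simp only [m, Category.assoc, pullback.map, pullback.lift_fst] at this
      exact (cancel_mono φ.fU).1 (by simpa using this)
    · have := congrArg (· ≫ pullback.snd G.pU G.pU) hab
      simp only [m, Category.assoc, pullback.map, pullback.lift_snd] at this
      exact (cancel_mono φ.fU).1 (by simpa using this)⟩
  haveI : LocallyOfFiniteType m :=
    MorphismProperty.pullbackMap (P := @LocallyOfFiniteType) hfUl hfUl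
      φ.fU_over.symm φ.fU_over.symm
  haveI : Mono φ.fR := ⟨fun a b hab => hj.hom_ext hab ((cancel_mono m).1 (by
    simp only [Category.assoc]
    rw [show G'.j ≫ m = φ.fR ≫ G.j from hj.w.symm, reassoc_of% hab]))⟩
  haveI : LocallyOfFiniteType φ.fR := MorphismProperty.of_isPullback hj.flip ‹LocallyOfFiniteType m›
  haveI : LocallyOfFiniteType (G'.s ≫ φ.fU) := by rw [← φ.comm_s]; infer_instance
  haveI : LocallyOfFiniteType G'.s := locallyOfFiniteType_of_comp _ φ.fU
  haveI : LocallyOfFiniteType (G'.t ≫ φ.fU) := by rw [← φ.comm_t]; infer_instance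
  haveI : LocallyOfFiniteType G'.t := locallyOfFiniteType_of_comp _ φ.fU
  have h1 := S1883.result S G' (G.U.residueField u) (asIso i)
  let ιF := G.s.fiberι u
  let f₂ := ιF ≫ G.t
  have hιs : ιF ≫ G.s = G.s.fiberToSpecResidueField u ≫ q := G.s.fiber_fac u
  -- the orbit fibre is the space of arrows of the restriction
  have hqs : (G'.s ≫ i) ≫ q = G'.s ≫ φ.fU := (Category.assoc _ _ _).trans (congrArg (G'.s ≫ ·) hiq)
  have hqt : (G'.t ≫ i) ≫ q = G'.t ≫ φ.fU := (Category.assoc _ _ _).trans (congrArg (G'.t ≫ ·) hiq)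
  let A : G'.R ⟶ f₂.fiber u := pullback.lift (pullback.lift φ.fR (G'.s ≫ i) (φ.comm_s.trans hqs.symm))
    (G'.t ≫ i) (by
      refine Eq.trans ?_ (φ.comm_t.trans hqt.symm)
      simp only [f₂, ιF, Scheme.Hom.fiberι]
      rw [pullback.lift_fst_assoc])
  let r : f₂.fiber u ⟶ G.R := f₂.fiberι u ≫ ιF
  have hrs : r ≫ G.s = (f₂.fiberι u ≫ G.s.fiberToSpecResidueField u ≫ inv i) ≫ φ.fU := by
    rw [← hiq]; simp only [r, Category.assoc, hιs, IsIso.inv_hom_id_assoc]
  have hrt : r ≫ G.t = (f₂.fiberToSpecResidueField u ≫ inv i) ≫ φ.fU := by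
    rw [← hiq]; simp only [Category.assoc, IsIso.inv_hom_id_assoc]
    exact f₂.fiber_fac u
  have hp : (f₂.fiberToSpecResidueField u ≫ inv i) ≫ G'.pU =
      (f₂.fiberι u ≫ G.s.fiberToSpecResidueField u ≫ inv i) ≫ G'.pU := by
    rw [← φ.fU_over, ← Category.assoc _ φ.fU, ← hrt, ← Category.assoc _ φ.fU, ← hrs]
    simp only [Category.assoc, G.t_over, G.s_over]
  let B : f₂.fiber u ⟶ G'.R := hj.lift r (pullback.lift _ _ hp) (by
    apply pullback.hom_ext
    · simp only [GroupoidScheme.j, pullback.map, Category.assoc, pullback.lift_fst]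
      rw [hrt, pullback.lift_fst_assoc]
    · simp only [GroupoidScheme.j, pullback.map, Category.assoc, pullback.lift_snd]
      rw [hrs, pullback.lift_snd_assoc])
  have hB : B ≫ φ.fR = r := hj.lift_fst _ _ _
  have hA : A ≫ r = φ.fR := by
    simp only [A, r, ιF, Scheme.Hom.fiberι]
    rw [pullback.lift_fst_assoc, pullback.lift_fst]
  haveI : Mono r := by
    simp only [r, ιF]; infer_instance
  let e : G'.R ≅ f₂.fiber u :=
    { hom := A
      inv := B
      hom_inv_id := (cancel_mono φ.fR).1 (by rw [Category.assoc, hB, hA, Category.id_comp])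
      inv_hom_id := (cancel_mono r).1 (by rw [Category.assoc, hA, hB, Category.id_comp]) }
  -- the stabilizer of the restriction is the fibre of the stabilizer
  have hd : G'.diag ≫ m = φ.fU ≫ G.diag := by
    apply pullback.hom_ext <;>
      simp [m, pullback.map, GroupoidScheme.diag, pullback.lift_fst, pullback.lift_snd] <;>
        exact Category.id_comp _
  have hA' : IsPullback (pullback.snd G'.j G'.diag) (pullback.fst G'.j G'.diag ≫ φ.fR) (φ.fU ≫ G.diag) G.j := by
    rw [← hd]
    exact (IsPullback.of_hasPullback G'.j G'.diag).flip.paste_vert hj.flip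
  have hB' : IsPullback (pullback.snd G.stabilizerToU φ.fU)
      (pullback.fst G.stabilizerToU φ.fU ≫ pullback.fst G.j G.diag) (φ.fU ≫ G.diag) G.j :=
    (IsPullback.of_hasPullback G.stabilizerToU φ.fU).flip.paste_vert (IsPullback.of_hasPullback G.j G.diag).flip
  let e2 : G'.stabilizer ≅ pullback G.stabilizerToU φ.fU := hA'.isoIsPullback _ _ hB'
  let e3 : pullback G.stabilizerToU φ.fU ≅ G.stabilizerToU.fiber u :=
    asIso (pullback.map G.stabilizerToU φ.fU G.stabilizerToU q (𝟙 _) i (𝟙 _) (by simp) (by simpa using hiq.symm))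
  refine ⟨?_, fun x hx => ?_⟩
  · rw [← IsHomeomorph.topologicalKrullDim_eq _ (Scheme.homeoOfIso e).isHomeomorph, h1,
      IsHomeomorph.topologicalKrullDim_eq _ (Scheme.homeoOfIso (e2 ≪≫ e3)).isHomeomorph]
  · have hc : IsClosed ({e.inv x} : Set ↥G'.R) := by
      rw [← Set.image_singleton]
      exact (Scheme.homeoOfIso e).symm.isClosedMap _ hx
    rw [← IsHomeomorph.topologicalKrullDim_eq _ (Scheme.homeoOfIso (e2 ≪≫ e3)).isHomeomorph, ← h1,
      ← S1887.result S G' (G.U.residueField u) (asIso i) (e.inv x) hc]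
    haveI : IsIso (e.inv : f₂.fiber u ⟶ G'.R) := e.isIso_inv
    exact ringKrullDim_eq_of_ringEquiv (asIso (e.inv.stalkMap x)).commRingCatIsoToRingEquiv.symm

open Grpd in
/-- The arrows from a point to itself have the dimension of the stabilizer at that point. -/
theorem dim_orbitFibre_eq (G : GroupoidScheme S) [LocallyOfFiniteType G.s] [LocallyOfFiniteType G.t] (u : G.U)
    [hu : LocallyOfFiniteType (G.U.fromSpecResidueField u)] :
    topologicalKrullDim ↥((G.s.fiberι u ≫ G.t).fiber u) = topologicalKrullDim ↥(G.stabilizerToU.fiber u) :=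
  (dim_orbitFibre_aux G u).1

/-- In a Cohen-Macaulay local ring an ideal with smaller quotient lies in no associated prime. -/
theorem not_le_of_ass {B : Type u} [CommRing B] [IsNoetherianRing B] [IsLocalRing B]
    [LocCoh.IsCohenMacaulayLocalRing B] {J P : Ideal B} (hP : P ∈ associatedPrimes B B)
    (h : ringKrullDim (B ⧸ J) < ringKrullDim B) : ¬ J ≤ P := by
  intro hle
  haveI := hP.isPrime
  have h1 := LC.coheight_eq_of_ass_of_isCM (R := B) B
    (LocCoh.IsCohenMacaulayLocalRing.supportDim_eq_depth) (p := ⟨P, hP.isPrime⟩) hP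
  rw [VarDim.coheight_eq_ringKrullDim_quotient, Module.supportDim_self_eq_ringKrullDim] at h1
  have h2 := ringKrullDim_le_of_surjective (Ideal.Quotient.factor hle) (Ideal.Quotient.factor_surjective hle)
  exact absurd (h1.ge.trans h2) (not_le_of_gt h)

/-- If an ideal lies in no associated prime of a ring, it contains a nonzerodivisor. -/
theorem exists_nonZeroDivisor {A B : Type u} [CommRing A] [CommRing B] [IsNoetherianRing B] (φ : A →+* B)
    (p : Ideal A) (h : ∀ P ∈ associatedPrimes B B, ¬ p.map φ ≤ P) : ∃ a ∈ p, φ a ∈ nonZeroDivisors B := by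
  classical
  have hfin := associatedPrimes.finite B B
  by_contra hc
  push_neg at hc
  have hsub : (p : Set A) ⊆ ⋃ P ∈ (↑hfin.toFinset : Set (Ideal B)), ((P.comap φ : Ideal A) : Set A) := by
    intro a ha
    have h2 : φ a ∈ ⋃ P ∈ associatedPrimes B B, (P : Set B) := by
      rw [biUnion_associatedPrimes_eq_compl_nonZeroDivisors]
      exact hc a ha
    rw [Set.Finite.coe_toFinset]
    simpa using h2
  obtain ⟨P, hP, hle⟩ := (Ideal.subset_union_prime (R := A) (s := hfin.toFinset)
    (f := fun P => P.comap φ) ⊥ ⊥ (fun P hP _ _ => by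
      haveI := ((Set.Finite.mem_toFinset hfin).1 hP).isPrime
      exact Ideal.IsPrime.comap φ)).1 hsub
  exact h P ((Set.Finite.mem_toFinset hfin).1 hP) (Ideal.map_le_iff_le_comap.2 hle)

end Groth.Agent.GrpdSlice
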