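import Groth.Agent.GrpdSlice.Max
import Groth.Agent.AlgStLib.GrpdQuotRestrict
import Groth.Agent.S1345
import Groth.Agent.S4961
import Groth.Agent.S9766
import Groth.Agent.S9767

/-!
# Spreading the Cohen-Macaulay property of a slice along the arrows
-/

set_option autoImplicit false
set_option linter.style.haveILetI false
set_option backward.isDefEq.respectTransparency false
set_option maxHeartbeats 1000000
universe u

open AlgebraicGeometry CategoryTheory CategoryTheory.Limits IsLocalRing Grpd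

namespace Groth.Agent.GrpdSlice

open FibFlat Triage Groth.Agent.AlgStLib.QuotRestrict

theorem isLocallyNoetherian_fiber {X Y : Scheme.{u}} (f : X ⟶ Y) [LocallyOfFiniteType f] (y : Y) :
    IsLocallyNoetherian (f.fiber y) :=
  haveI : LocallyOfFiniteType (f.fiberToSpecResidueField y) :=
    inferInstanceAs (LocallyOfFiniteType (pullback.snd f (Y.fromSpecResidueField y)))
  LocallyOfFiniteType.isLocallyNoetherian (f.fiberToSpecResidueField y)

theorem flat_of_forall_isCMAt {X Y : Scheme.{u}} (f : X ⟶ Y) (h : ∀ x, MoreMor.IsCMAt f x) : Flat f :=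
  Flat.of_stalkMap _ fun x => (h x).1

/-- Cohen-Macaulayness everywhere is stable under base change. -/
theorem forall_isCMAt_baseChange {X Y X' Y' : Scheme.{u}} {f : X ⟶ Y} {f' : X' ⟶ Y'} {g' : X' ⟶ X}
    {g : Y' ⟶ Y} [LocallyOfFiniteType f] [LocallyOfFiniteType g] (hc : IsPullback g' f' f g)
    (h : ∀ x, MoreMor.IsCMAt f x) (x' : X') : MoreMor.IsCMAt f' x' :=
  S1345.result f (isLocallyNoetherian_fiber f) f' g' g hc x' (h _)

variable {S : Scheme.{u}} (G : GroupoidScheme S)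

/-- Composition of an arrow of a slice with an arrow, and the cartesian squares it gives. -/
theorem exists_translate {U' : Scheme.{u}} (g : U' ⟶ G.U) :
    ∃ cQ : pullback (pullback.snd g G.t ≫ G.s) G.t ⟶ pullback g G.t,
      cQ ≫ pullback.snd g G.t ≫ G.s = pullback.snd (pullback.snd g G.t ≫ G.s) G.t ≫ G.s ∧
      IsPullback cQ (pullback.fst (pullback.snd g G.t ≫ G.s) G.t) (pullback.fst g G.t) (pullback.fst g G.t) ∧
      IsPullback cQ (pullback.snd (pullback.snd g G.t ≫ G.s) G.t) (pullback.snd g G.t ≫ G.s) G.s := by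
  let P := pullback g G.t
  obtain ⟨a, hadef⟩ : ∃ a : P ⟶ U', a = pullback.fst g G.t := ⟨_, rfl⟩
  obtain ⟨b, hbdef⟩ : ∃ b : P ⟶ G.R, b = pullback.snd g G.t := ⟨_, rfl⟩
  have hab : a ≫ g = b ≫ G.t := by rw [hadef, hbdef]; exact pullback.condition
  have haP : IsPullback b a G.t g := by rw [hadef, hbdef]; exact (IsPullback.of_hasPullback g G.t).flip
  rw [← hadef, ← hbdef]
  let h := b ≫ G.s
  let Q := pullback h G.t
  let fQ : Q ⟶ P := pullback.fst h G.t
  let h' : Q ⟶ G.R := pullback.snd h G.t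
  have hc0 : (fQ ≫ b) ≫ G.s = h' ≫ G.t := (Category.assoc _ _ _).trans pullback.condition
  obtain ⟨cQ, hcQa, hcQb⟩ : ∃ cQ : Q ⟶ P, cQ ≫ a = fQ ≫ a ∧ cQ ≫ b = cmp G (fQ ≫ b) h' := by
    refine ⟨haP.lift (cmp G (fQ ≫ b) h') (fQ ≫ a) ?_, haP.lift_snd _ _ _, haP.lift_fst _ _ _⟩
    rw [cmp_t hc0, Category.assoc, Category.assoc, hab]
  have hcQh : cQ ≫ h = h' ≫ G.s := by
    show cQ ≫ b ≫ G.s = _
    rw [← Category.assoc, hcQb, cmp_s hc0]
  -- pairs in the same fibre of the projection are translates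
  have hpb : IsPullback cQ fQ a a := by
    have hw : cQ ≫ a = fQ ≫ a := hcQa
    have hl : ∀ {T : Scheme.{u}} (y x : T ⟶ P), y ≫ a = x ≫ a →
        ∃! l : T ⟶ Q, l ≫ cQ = y ∧ l ≫ fQ = x := by
      intro T y x hyx
      have hc1 : ((x ≫ b) ≫ G.i) ≫ G.s = (y ≫ b) ≫ G.t := by
        rw [inv_s, Category.assoc, Category.assoc, ← hab, reassoc_of% hyx]
      have hc2 : x ≫ h = cmp G ((x ≫ b) ≫ G.i) (y ≫ b) ≫ G.t := by
        rw [cmp_t hc1, inv_t, Category.assoc]
      refine ⟨pullback.lift x (cmp G ((x ≫ b) ≫ G.i) (y ≫ b)) hc2, ⟨?_, pullback.lift_fst _ _ _⟩, ?_⟩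
      · refine haP.hom_ext ?_ ?_
        · rw [Category.assoc, hcQb, comp_cmp _ hc0, ← Category.assoc, pullback.lift_fst, pullback.lift_snd,
            ← cmp_assoc (inv_t (x ≫ b)).symm hc1, cmp_inv, id_cmp]
          rw [Category.assoc, Category.assoc, ← hab, reassoc_of% hyx]
        · rw [Category.assoc, hcQa, ← Category.assoc, pullback.lift_fst, hyx]
      · rintro m ⟨hm1, hm2⟩
        apply pullback.hom_ext
        · rw [pullback.lift_fst]; exact hm2
        · rw [pullback.lift_snd]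
          have hm : (x ≫ b) ≫ G.s = (m ≫ h') ≫ G.t := by
            rw [← hm2, Category.assoc, Category.assoc, Category.assoc, ← hc0, Category.assoc]
          have hy : y ≫ b = cmp G (x ≫ b) (m ≫ h') := by
            rw [← hm1, Category.assoc, hcQb, comp_cmp _ hc0, ← Category.assoc, hm2]
          rw [hy, ← cmp_assoc (inv_s _) hm, inv_cmp, id_cmp hm.symm]
    refine ⟨⟨hw⟩, ⟨PullbackCone.IsLimit.mk _ (fun c => (hl c.fst c.snd c.condition).choose)
      (fun c => (hl c.fst c.snd c.condition).choose_spec.1.1)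
      (fun c => (hl c.fst c.snd c.condition).choose_spec.1.2)
      (fun c m h1 h2 => (hl c.fst c.snd c.condition).choose_spec.2 m ⟨h1, h2⟩)⟩⟩
  refine ⟨cQ, hcQh, hpb, ?_⟩
  have hl : ∀ {T : Scheme.{u}} (y : T ⟶ P) (r : T ⟶ G.R), y ≫ h = r ≫ G.s →
      ∃! l : T ⟶ Q, l ≫ cQ = y ∧ l ≫ h' = r := by
    intro T y r hyr
    have hyr' : (y ≫ b) ≫ G.s = r ≫ G.s := (Category.assoc _ _ _).trans hyr
    have hc1 : (y ≫ b) ≫ G.s = (r ≫ G.i) ≫ G.t := hyr'.trans (inv_t r).symm
    have hx : cmp G (y ≫ b) (r ≫ G.i) ≫ G.t = (y ≫ a) ≫ g := by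
      rw [cmp_t hc1, Category.assoc, Category.assoc, hab]
    obtain ⟨x, hxa, hxb⟩ : ∃ x : T ⟶ P, x ≫ a = y ≫ a ∧ x ≫ b = cmp G (y ≫ b) (r ≫ G.i) :=
      ⟨haP.lift _ _ hx, haP.lift_snd _ _ _, haP.lift_fst _ _ _⟩
    have hxh : x ≫ h = r ≫ G.t := by
      show x ≫ b ≫ G.s = _
      rw [← Category.assoc, hxb, cmp_s hc1, inv_s]
    refine ⟨pullback.lift x r hxh, ⟨?_, pullback.lift_snd _ _ _⟩, ?_⟩
    · refine haP.hom_ext ?_ ?_
      · rw [Category.assoc, hcQb, comp_cmp _ hc0, ← Category.assoc, pullback.lift_fst, pullback.lift_snd, hxb,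
          cmp_assoc hc1 (inv_s r), inv_cmp, cmp_id hyr']
      · rw [Category.assoc, hcQa, ← Category.assoc, pullback.lift_fst, hxa]
    · rintro m ⟨hm1, hm2⟩
      apply pullback.hom_ext
      · rw [pullback.lift_fst]
        refine haP.hom_ext ?_ ?_
        · have hm : (m ≫ fQ ≫ b) ≫ G.s = r ≫ G.t := by
            rw [Category.assoc, hc0, ← Category.assoc, hm2]
          rw [hxb, ← hm1, Category.assoc m cQ, hcQb, comp_cmp _ hc0, hm2,
            cmp_assoc hm (inv_t r).symm, cmp_inv, cmp_id hm, Category.assoc]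
        · rw [hxa, ← hm1, Category.assoc, Category.assoc, hcQa]
      · rw [pullback.lift_snd]; exact hm2
  exact ⟨⟨hcQh⟩, ⟨PullbackCone.IsLimit.mk _ (fun c => (hl c.fst c.snd c.condition).choose)
      (fun c => (hl c.fst c.snd c.condition).choose_spec.1.1)
      (fun c => (hl c.fst c.snd c.condition).choose_spec.1.2)
      (fun c m h1 h2 => (hl c.fst c.snd c.condition).choose_spec.2 m ⟨h1, h2⟩)⟩⟩

/-- The Cohen-Macaulay locus of a slice is a union of fibres of the projection to the slice. -/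
theorem isCMAt_of_fst_eq [LocallyOfFinitePresentation G.s] [LocallyOfFinitePresentation G.t]
    (hs : ∀ r, MoreMor.IsCMAt G.s r) (ht : ∀ r, MoreMor.IsCMAt G.t r) {U' : Scheme.{u}} (g : U' ⟶ G.U)
    [LocallyOfFinitePresentation g] {p y : ↑(pullback g G.t)}
    (he : pullback.fst g G.t y = pullback.fst g G.t p)
    (hp : MoreMor.IsCMAt (pullback.snd g G.t ≫ G.s) p) : MoreMor.IsCMAt (pullback.snd g G.t ≫ G.s) y := by
  let P := pullback g G.t
  obtain ⟨a, hadef⟩ : ∃ a : P ⟶ U', a = pullback.fst g G.t := ⟨_, rfl⟩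
  obtain ⟨b, hbdef⟩ : ∃ b : P ⟶ G.R, b = pullback.snd g G.t := ⟨_, rfl⟩
  have hab : a ≫ g = b ≫ G.t := by rw [hadef, hbdef]; exact pullback.condition
  have haP : IsPullback b a G.t g := by rw [hadef, hbdef]; exact (IsPullback.of_hasPullback g G.t).flip
  rw [← hbdef] at hp ⊢
  rw [← hadef] at he
  haveI : LocallyOfFinitePresentation a := by rw [hadef]; infer_instance
  haveI : LocallyOfFinitePresentation b := by rw [hbdef]; infer_instance
  let h := b ≫ G.s
  let Q := pullback h G.t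
  let fQ : Q ⟶ P := pullback.fst h G.t
  let h' : Q ⟶ G.R := pullback.snd h G.t
  obtain ⟨cQ, hcQh, hpb, -⟩ : ∃ cQ : Q ⟶ P, cQ ≫ h = h' ≫ G.s ∧ IsPullback cQ fQ a a ∧
      IsPullback cQ h' h G.s := by
    have := exists_translate G g
    rw [← hadef, ← hbdef] at this
    exact this
  haveI := flat_of_forall_isCMAt G.t ht
  have haCM : ∀ z, MoreMor.IsCMAt a z := forall_isCMAt_baseChange haP ht
  have hcCM : ∀ z, MoreMor.IsCMAt cQ z := forall_isCMAt_baseChange hpb.flip haCM
  obtain ⟨z, hz1, hz2⟩ := Scheme.Pullback.exists_preimage_pullback (f := a) (g := a) y p he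
  obtain ⟨x, hxy, hxp⟩ : ∃ x : Q, cQ x = y ∧ fQ x = p := by
    refine ⟨hpb.isoPullback.inv z, ?_, ?_⟩
    · rw [← Scheme.Hom.comp_apply, hpb.isoPullback_inv_fst, hz1]
    · rw [← Scheme.Hom.comp_apply, hpb.isoPullback_inv_snd, hz2]
  haveI : LocallyOfFinitePresentation h := inferInstanceAs (LocallyOfFinitePresentation (b ≫ G.s))
  haveI : LocallyOfFinitePresentation cQ := MorphismProperty.of_isPullback hpb.flip inferInstance
  haveI : LocallyOfFinitePresentation h' := inferInstanceAs (LocallyOfFinitePresentation (pullback.snd h G.t))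
  have h1 : MoreMor.IsCMAt h' x :=
    S1345.result h (isLocallyNoetherian_fiber h) h' fQ G.t (IsPullback.of_hasPullback h G.t) x (hxp.symm ▸ hp)
  have h2 : MoreMor.IsCMAt (h' ≫ G.s) x := S9766.result h' G.s x (isLocallyNoetherian_fiber _ _) h1 (hs _)
  rw [← hcQh] at h2
  have h4 := S9767.result cQ h x (isLocallyNoetherian_fiber _ _) (isLocallyNoetherian_fiber _ _) h2 (hcCM x).1
  exact hxy ▸ h4.2

/-- A slice through a unit on which the second projection is Cohen-Macaulay everywhere. -/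
theorem exists_max_slice [LocallyOfFinitePresentation G.s] [LocallyOfFinitePresentation G.t]
    (hs : ∀ r, MoreMor.IsCMAt G.s r) (ht : ∀ r, MoreMor.IsCMAt G.t r) (u : G.U)
    [hu : LocallyOfFiniteType (G.U.fromSpecResidueField u)] :
    ∃ (U' : Scheme.{u}) (_ : IsAffine U') (g : U' ⟶ G.U) (u' : U') (p : ↑(pullback g G.t)),
      IsImmersion g ∧ LocallyOfFinitePresentation g ∧ g u' = u ∧ pullback.fst g G.t p = u' ∧
        pullback.snd g G.t p = G.e u ∧ (∀ q, MoreMor.IsCMAt (pullback.snd g G.t ≫ G.s) q) ∧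
        FlatMor.fibreDimAt (pullback.snd g G.t ≫ G.s) p = topologicalKrullDim ↥(G.stabilizerToU.fiber u) := by
  obtain ⟨U₁, hA₁, g₁, u₁, p₁, hg₁, hfp₁, hgu, hp1, hp2, hcm, hdim⟩ := exists_point_slice G hs u
  haveI := hg₁; haveI := hfp₁
  haveI := flat_of_forall_isCMAt G.t ht
  let a := pullback.fst g₁ G.t
  haveI : UniversallyOpen a := UniversallyOpen.of_flat a
  let O : Set ↑(pullback g₁ G.t) := {q | MoreMor.IsCMAt (pullback.snd g₁ G.t ≫ G.s) q}
  have hO : IsOpen O := S4961.result (pullback.snd g₁ G.t ≫ G.s)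
  let W₁ : U₁.Opens := ⟨a '' O, a.isOpenMap _ hO⟩
  obtain ⟨V, hV, huV, hVW⟩ := exists_isAffineOpen_mem_and_subset (X := U₁) (x := u₁) (U := W₁) ⟨p₁, hcm, hp1⟩
  haveI : IsAffine V.toScheme := hV
  let g := V.ι ≫ g₁
  let m : pullback g G.t ⟶ pullback g₁ G.t :=
    (pullbackRightPullbackFstIso g₁ G.t V.ι).inv ≫ pullback.snd V.ι (pullback.fst g₁ G.t)
  have hm1 : m ≫ pullback.fst g₁ G.t = pullback.fst g G.t ≫ V.ι := by
    simp only [m, g, Category.assoc, ← pullback.condition]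
    rw [pullbackRightPullbackFstIso_inv_fst_assoc]
  have hm2 : m ≫ pullback.snd g₁ G.t = pullback.snd g G.t := by
    simp only [m, g, Category.assoc, pullbackRightPullbackFstIso_inv_snd_snd]
  haveI : IsOpenImmersion m := by
    simp only [m]; infer_instance
  obtain ⟨p, hq1, hq2⟩ := Scheme.Pullback.exists_preimage_pullback (f := g) (g := G.t) ⟨u₁, huV⟩ (G.e u)
    (by rw [t_unit]; simpa [g] using hgu)
  have hmp : m p = p₁ := by
    apply (pullback.snd g₁ G.t).isEmbedding.injective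
    rw [← Scheme.Hom.comp_apply, hm2, hq2, hp2]
  refine ⟨V.toScheme, inferInstance, g, ⟨u₁, huV⟩, p, inferInstance, inferInstance, by simpa [g] using hgu,
    hq1, hq2, fun q => ?_, ?_⟩
  · have hq : pullback.fst g₁ G.t (m q) ∈ a '' O := hVW (by
      rw [← Scheme.Hom.comp_apply, hm1, Scheme.Hom.comp_apply]
      exact (pullback.fst g G.t q).2)
    obtain ⟨q₀, hq₀, he⟩ := hq
    have hcmq := isCMAt_of_fst_eq G hs ht g₁ (p := q₀) (y := m q) he.symm hq₀
    rw [show pullback.snd g G.t ≫ G.s = m ≫ pullback.snd g₁ G.t ≫ G.s from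
      ((Category.assoc _ _ _).symm.trans (congrArg (· ≫ G.s) hm2)).symm]
    exact ((transport_of_bijective m _ q (m q) _ rfl rfl (Scheme.Hom.comp_apply _ _ _)
      (bijective_sm_of_isOpenImmersion _ _ _ _)).2).2 hcmq
  · rw [fibreDimAt_slice G u g p hq2, ← hdim, fibreDimAt_slice G u g₁ p₁ hp2]
    have hcomp : m ≫ pullback.snd g₁ G.t ≫ G.s = pullback.snd g G.t ≫ G.s :=
      (Category.assoc _ _ _).symm.trans (congrArg (· ≫ G.s) hm2)
    have hmu : (m ≫ pullback.snd g₁ G.t ≫ G.s) p = u := by rw [hcomp]; exact h_unit G u g p hq2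
    rw [← fibreIdeal_congr hcomp p u hmu (h_unit G u g p hq2)]
    exact (transport_of_bijective m _ p p₁ u hmp (h_unit G u g₁ p₁ hp2) hmu
      (bijective_sm_of_isOpenImmersion _ _ _ _)).1

end Groth.Agent.GrpdSlice
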