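import Groth.Agent.FibFlat.Local
import Groth.Agent.FibFlat.Stalk

/-!
# Kernels on stalks of slices cut out by one function on an affine chart
-/

set_option autoImplicit false
set_option linter.style.haveILetI false
set_option backward.isDefEq.respectTransparency false
universe u

open AlgebraicGeometry CategoryTheory CategoryTheory.Limits IsLocalRing

namespace Groth.Agent.GrpdSlice

open FibFlat

variable {X X' D : Scheme.{u}}

theorem exists_fromSpecStalk {P : Scheme.{u}} {R : CommRingCat.{u}} [IsLocalRing R] (l : Spec R ⟶ P) {z : P}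
    (hz : l (closedPoint R) = z) : ∃ χ : P.presheaf.stalk z ⟶ R, l = Spec.map χ ≫ P.fromSpecStalk z := by
  subst hz
  exact ⟨Scheme.stalkClosedPointTo l, (Scheme.Spec_stalkClosedPointTo_fromSpecStalk l).symm⟩

theorem specMap_sm_fromSpecStalk (f : X ⟶ D) (x : X) (y : D) (h : f x = y) :
    Spec.map (CommRingCat.ofHom (sm f x y h)) ≫ D.fromSpecStalk y = X.fromSpecStalk x ≫ f := by
  subst h
  rw [sm_self]
  exact Scheme.SpecMap_stalkMap_fromSpecStalk f

/-- The kernel on stalks of the base change of a preimmersion. -/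
theorem ker_sm_snd (g : D ⟶ X) (t : X' ⟶ X) [IsPreimmersion g] (p : ↑(pullback g t)) (d : D) (x' : X')
    (x : X) (hd : pullback.fst g t p = d) (hx' : pullback.snd g t p = x') (hgd : g d = x) (htx : t x' = x) :
    RingHom.ker (sm (pullback.snd g t) p x' hx') = (RingHom.ker (sm g d x hgd)).map (sm t x' x htx) := by
  refine le_antisymm (fun y hy => ?_) (Ideal.map_le_iff_le_comap.2 fun y hy => ?_)
  swap
  · show sm (pullback.snd g t) p x' hx' (sm t x' x htx y) = 0
    have hp : (pullback.fst g t ≫ g) p = x := by rw [Scheme.Hom.comp_apply, hd, hgd]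
    rw [← RingHom.comp_apply,
      ← sm_factor (pullback.snd g t) t (pullback.fst g t ≫ g) pullback.condition p x' x hx' htx hp,
      sm_factor (pullback.fst g t) g (pullback.fst g t ≫ g) rfl p d x hd hgd hp, RingHom.comp_apply,
      RingHom.mem_ker.1 hy, map_zero]
  let I := (RingHom.ker (sm g d x hgd)).map (sm t x' x htx)
  show y ∈ I
  by_cases hI : I = ⊤
  · rw [hI]; trivial
  let R : CommRingCat.{u} := CommRingCat.of (X'.presheaf.stalk x' ⧸ I)
  haveI : Nontrivial R := Ideal.Quotient.nontrivial_iff.2 hI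
  haveI : IsLocalRing R := IsLocalRing.of_surjective' _ (Ideal.Quotient.mk_surjective (I := I))
  let π : X'.presheaf.stalk x' ⟶ R := CommRingCat.ofHom (Ideal.Quotient.mk I)
  haveI hπ : IsLocalHom π.hom := IsLocalHom.of_surjective _ Ideal.Quotient.mk_surjective
  let ψ : D.presheaf.stalk d ⟶ R := CommRingCat.ofHom ((sm g d x hgd).liftOfSurjective (surjective_sm _ _ _)
    ⟨(Ideal.Quotient.mk I).comp (sm t x' x htx), fun a ha =>
      Ideal.Quotient.eq_zero_iff_mem.2 (Ideal.mem_map_of_mem _ ha)⟩)
  have hψ : CommRingCat.ofHom (sm g d x hgd) ≫ ψ = CommRingCat.ofHom (sm t x' x htx) ≫ π :=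
    CommRingCat.hom_ext (RingHom.liftOfRightInverse_comp _ _ _ _)
  let a : Spec R ⟶ X' := Spec.map π ≫ X'.fromSpecStalk x'
  let b : Spec R ⟶ D := Spec.map ψ ≫ D.fromSpecStalk d
  have hab : b ≫ g = a ≫ t := by
    simp only [a, b, Category.assoc, ← specMap_sm_fromSpecStalk g d x hgd,
      ← specMap_sm_fromSpecStalk t x' x htx, ← Spec.map_comp_assoc]
    rw [hψ]
  let l : Spec R ⟶ pullback g t := pullback.lift b a hab
  have hl : l ≫ pullback.snd g t = a := pullback.lift_snd _ _ _
  have hlz : l (closedPoint R) = p := by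
    apply (pullback.snd g t).isEmbedding.injective
    rw [← Scheme.Hom.comp_apply, hl, hx']
    show X'.fromSpecStalk x' (Spec.map π (closedPoint R)) = x'
    rw [show Spec.map π (closedPoint R) = closedPoint (X'.presheaf.stalk x') from comap_closedPoint π.hom,
      Scheme.fromSpecStalk_closedPoint]
  obtain ⟨χ, hχ⟩ := exists_fromSpecStalk l hlz
  have h1 : Spec.map (CommRingCat.ofHom (sm (pullback.snd g t) p x' hx') ≫ χ) = Spec.map π := by
    rw [← cancel_mono (X'.fromSpecStalk x'), Spec.map_comp, Category.assoc, specMap_sm_fromSpecStalk,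
      ← Category.assoc, ← hχ, hl]
  refine Ideal.Quotient.eq_zero_iff_mem.1 ?_
  have h2 := congrArg (fun k : X'.presheaf.stalk x' ⟶ R => k.hom y) (Spec.map_injective h1)
  refine h2.symm.trans ?_
  show χ.hom (sm (pullback.snd g t) p x' hx' y) = 0
  rw [RingHom.mem_ker.1 hy, map_zero]

/-- The chart of an affine open takes germs to the canonical map of the spectrum. -/
theorem sm_fromSpec_germ {W : X.Opens} (hW : IsAffineOpen W) (pz : Spec Γ(X, W)) (x : X)
    (h : hW.fromSpec pz = x) (hx : x ∈ W) (a : Γ(X, W)) :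
    sm hW.fromSpec pz x h ((X.presheaf.germ W x hx).hom a) = tS Γ(X, W) pz a := by
  subst h
  rw [sm_self, tS_def]
  show ((hW.fromSpec.stalkMap pz).hom) ((X.presheaf.germ W (hW.fromSpec pz) hx).hom a) = _
  refine (Scheme.Hom.germ_stalkMap_apply hW.fromSpec W pz hx a).trans ?_
  rw [hW.fromSpec_app_self]
  simp only [CommRingCat.hom_comp, RingHom.comp_apply]
  exact TopCat.Presheaf.germ_res_apply _ _ _ _ _

/-- The closed subscheme of an affine chart cut out by an ideal. -/
noncomputable def slice {W : X.Opens} (hW : IsAffineOpen W) (I : Ideal Γ(X, W)) :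
    Spec (CommRingCat.of (Γ(X, W) ⧸ I)) ⟶ X :=
  Spec.map (CommRingCat.ofHom (Ideal.Quotient.mk I)) ≫ hW.fromSpec

instance {W : X.Opens} (hW : IsAffineOpen W) (I : Ideal Γ(X, W)) : IsImmersion (slice hW I) := by
  haveI : IsClosedImmersion (Spec.map (CommRingCat.ofHom (Ideal.Quotient.mk I))) :=
    IsClosedImmersion.spec_of_surjective _ Ideal.Quotient.mk_surjective
  unfold slice
  infer_instance

/-- A point of the chart at which the ideal vanishes lifts to the slice. -/
theorem exists_slice_point {W : X.Opens} (hW : IsAffineOpen W) (I : Ideal Γ(X, W)) (x : X) (hx : x ∈ W)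
    (hI : ∀ a ∈ I, (X.presheaf.germ W x hx).hom a ∈ maximalIdeal (X.presheaf.stalk x)) :
    ∃ z, slice hW I z = x := by
  letI := X.presheaf.algebra_section_stalk ⟨x, hx⟩
  haveI := hW.isLocalization_stalk ⟨x, hx⟩
  let P := hW.primeIdealOf ⟨x, hx⟩
  have hle : I ≤ P.asIdeal := fun a ha =>
    (IsLocalization.AtPrime.to_map_mem_maximal_iff (X.presheaf.stalk x) P.asIdeal a).1 (hI a ha)
  have hmem : P ∈ Set.range (PrimeSpectrum.comap (Ideal.Quotient.mk I)) := by
    rw [range_comap_of_surjective _ _ Ideal.Quotient.mk_surjective, Ideal.mk_ker]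
    exact hle
  obtain ⟨z, hz⟩ := hmem
  refine ⟨z, ?_⟩
  show hW.fromSpec (Spec.map (CommRingCat.ofHom (Ideal.Quotient.mk I)) z) = x
  exact (congrArg hW.fromSpec hz).trans (hW.fromSpec_primeIdealOf ⟨x, hx⟩)

/-- The kernel on stalks of a slice of an affine chart. -/
theorem ker_sm_slice {W : X.Opens} (hW : IsAffineOpen W) (I : Ideal Γ(X, W))
    (z : Spec (CommRingCat.of (Γ(X, W) ⧸ I))) (x : X) (h : slice hW I z = x) (hx : x ∈ W) :
    RingHom.ker (sm (slice hW I) z x h) = I.map (X.presheaf.germ W x hx).hom := by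
  let π : Γ(X, W) ⟶ CommRingCat.of (Γ(X, W) ⧸ I) := CommRingCat.ofHom (Ideal.Quotient.mk I)
  let pz := Spec.map π z
  have hval : ∀ a, sm (slice hW I) z x h ((X.presheaf.germ W x hx).hom a) =
      tS (CommRingCat.of (Γ(X, W) ⧸ I)) z (Ideal.Quotient.mk I a) := fun a => by
    rw [sm_factor (Spec.map π) hW.fromSpec (slice hW I) rfl z pz x rfl h h, RingHom.comp_apply]
    refine (congrArg (sm (Spec.map π) z pz rfl) (sm_fromSpec_germ hW pz x h hx a)).trans ?_
    exact RingHom.congr_fun (tS_natural π z pz rfl) a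
  refine le_antisymm (fun y hy => ?_) (Ideal.map_le_iff_le_comap.2 fun a ha => ?_)
  · letI := X.presheaf.algebra_section_stalk ⟨x, hx⟩
    haveI := hW.isLocalization_stalk ⟨x, hx⟩
    obtain ⟨⟨a, s⟩, hya⟩ := IsLocalization.surj (hW.primeIdealOf ⟨x, hx⟩).asIdeal.primeCompl y
    have hs := IsLocalization.map_units (X.presheaf.stalk x) s
    refine (Ideal.mul_unit_mem_iff_mem _ hs).1 ?_
    rw [hya]
    show (X.presheaf.germ W x hx).hom a ∈ _
    have h0 : tS (CommRingCat.of (Γ(X, W) ⧸ I)) z (Ideal.Quotient.mk I a) = 0 := by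
      rw [← hval, show (X.presheaf.germ W x hx).hom a = y * algebraMap Γ(X, W) (X.presheaf.stalk x) s from hya.symm,
        map_mul, RingHom.mem_ker.1 hy, zero_mul]
    obtain ⟨v, hv, hva⟩ := exists_of_tS_eq_zero _ z _ h0
    obtain ⟨v, rfl⟩ := Ideal.Quotient.mk_surjective v
    rw [← hval] at hv
    have hv' := isUnit_of_map_unit _ _ hv
    refine (Ideal.unit_mul_mem_iff_mem _ hv').1 ?_
    rw [← map_mul]
    exact Ideal.mem_map_of_mem _ (Ideal.Quotient.eq_zero_iff_mem.1 (by rw [map_mul]; exact hva))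
  · show sm (slice hW I) z x h _ = 0
    rw [hval, Ideal.Quotient.eq_zero_iff_mem.2 ha, map_zero]

theorem locallyOfFinitePresentation_slice {W : X.Opens} (hW : IsAffineOpen W) (a : Γ(X, W)) :
    LocallyOfFinitePresentation (slice hW (Ideal.span {a})) := by
  haveI : LocallyOfFinitePresentation (Spec.map (CommRingCat.ofHom (Ideal.Quotient.mk (Ideal.span {a})))) :=
    (HasRingHomProperty.Spec_iff (P := @LocallyOfFinitePresentation)).2
      (RingHom.FinitePresentation.of_surjective _ Ideal.Quotient.mk_surjective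
        (by rw [CommRingCat.hom_ofHom, Ideal.mk_ker]; exact Submodule.fg_span_singleton a))
  unfold slice
  infer_instance

end Groth.Agent.GrpdSlice
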