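import Groth.Agent.GrpdSlice.Unit
import Mathlib

/-!
# A slice of minimal dimension at a unit
-/

set_option autoImplicit false
set_option linter.style.haveILetI false
set_option backward.isDefEq.respectTransparency false
universe u

open AlgebraicGeometry CategoryTheory CategoryTheory.Limits IsLocalRing Grpd

namespace Groth.Agent.GrpdSlice

open FibFlat Triage

theorem bijective_sm_of_isOpenImmersion {X Y : Scheme.{u}} (f : X ⟶ Y) [IsOpenImmersion f] (x : X) (y : Y)
    (h : f x = y) : Function.Bijective (sm f x y h) := by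
  subst h
  rw [sm_self]
  exact ConcreteCategory.bijective_of_isIso (f.stalkMap x)

theorem exists_nat_dim (R : Type u) [CommRing R] [IsLocalRing R] [IsNoetherianRing R] :
    ∃ n : ℕ, ringKrullDim R = n := by
  obtain ⟨d, hd⟩ := WithBot.ne_bot_iff_exists.1 (ringKrullDim_ne_bot (R := R))
  have hd' : d ≠ ⊤ := fun h => ringKrullDim_ne_top (R := R) (by rw [← hd, h]; rfl)
  obtain ⟨n, rfl⟩ := ENat.ne_top_iff_exists.1 hd'
  exact ⟨n, hd.symm⟩

theorem exists_nat_dim_quot {X : Scheme.{u}} (x : X) (I : Ideal (X.presheaf.stalk x))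
    [IsNoetherianRing (X.presheaf.stalk x ⧸ I)] (hI : I ≤ maximalIdeal _) :
    ∃ n : ℕ, ringKrullDim (X.presheaf.stalk x ⧸ I) = n := by
  haveI : Nontrivial (X.presheaf.stalk x ⧸ I) :=
    Ideal.Quotient.nontrivial_iff.2 fun h => (maximalIdeal.isMaximal _).ne_top (top_le_iff.1 (h ▸ hI))
  haveI : IsLocalRing (X.presheaf.stalk x ⧸ I) := .of_surjective' _ Ideal.Quotient.mk_surjective
  exact exists_nat_dim _

theorem fibreIdeal_le {X Y : Scheme.{u}} (f : X ⟶ Y) (x : X) (y : Y) (h : f x = y) :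
    fibreIdeal f x y h ≤ maximalIdeal _ :=
  Ideal.map_le_iff_le_comap.2 fun a ha => map_nonunit (sm f x y h) a ha

variable {S : Scheme.{u}} (G : GroupoidScheme S)

/-- A slice through a unit of least dimension, Cohen-Macaulay at the unit. -/
theorem exists_point_slice [LocallyOfFinitePresentation G.s] [LocallyOfFinitePresentation G.t]
    (hs : ∀ r : G.R, MoreMor.IsCMAt G.s r) (u : G.U) [hu : LocallyOfFiniteType (G.U.fromSpecResidueField u)] :
    ∃ (U' : Scheme.{u}) (_ : IsAffine U') (g : U' ⟶ G.U) (u' : U') (p : ↑(pullback g G.t)),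
      IsImmersion g ∧ LocallyOfFinitePresentation g ∧ g u' = u ∧ pullback.fst g G.t p = u' ∧
        pullback.snd g G.t p = G.e u ∧ MoreMor.IsCMAt (pullback.snd g G.t ≫ G.s) p ∧
        FlatMor.fibreDimAt (pullback.snd g G.t ≫ G.s) p = topologicalKrullDim ↥(G.stabilizerToU.fiber u) := by
  -- the dimension of the stabilizer
  obtain ⟨d, hd⟩ : ∃ d : ℕ, topologicalKrullDim ↥(G.stabilizerToU.fiber u) = d := by
    rw [← dim_unit_orbit G u]
    haveI := isNoetherianRing_fibreRing G.s (G.e u) u (s_unit G u)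
    haveI : IsNoetherianRing (G.R.presheaf.stalk (G.e u) ⧸
        (fibreIdeal G.s (G.e u) u (s_unit G u) ⊔ fibreIdeal G.t (G.e u) u (t_unit G u))) :=
      isNoetherianRing_of_surjective _ _ (Ideal.Quotient.factor le_sup_left)
        (Ideal.Quotient.factor_surjective le_sup_left)
    exact exists_nat_dim_quot _ _ (sup_le (fibreIdeal_le _ _ _ _) (fibreIdeal_le _ _ _ _))
  -- the induction
  suffices key : ∀ (n : ℕ) (U' : Scheme.{u}) (_ : IsAffine U') (g : U' ⟶ G.U) (_ : IsImmersion g)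
      (_ : LocallyOfFinitePresentation g) (u' : U') (p : ↑(pullback g G.t)), g u' = u →
      pullback.fst g G.t p = u' → ∀ hp2 : pullback.snd g G.t p = G.e u,
      MoreMor.IsCMAt (pullback.snd g G.t ≫ G.s) p →
      ringKrullDim ((pullback g G.t).presheaf.stalk p ⧸
        fibreIdeal (pullback.snd g G.t ≫ G.s) p u (h_unit G u g p hp2)) = n → d ≤ n →
      ∃ (U' : Scheme.{u}) (_ : IsAffine U') (g : U' ⟶ G.U) (u' : U') (p : ↑(pullback g G.t)),
        IsImmersion g ∧ LocallyOfFinitePresentation g ∧ g u' = u ∧ pullback.fst g G.t p = u' ∧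
          pullback.snd g G.t p = G.e u ∧ MoreMor.IsCMAt (pullback.snd g G.t ≫ G.s) p ∧
          FlatMor.fibreDimAt (pullback.snd g G.t ≫ G.s) p = topologicalKrullDim ↥(G.stabilizerToU.fiber u) by
    obtain ⟨W, hW, huW, -⟩ := exists_isAffineOpen_mem_and_subset (X := G.U) (x := u) (U := ⊤) trivial
    haveI : IsAffine W.toScheme := hW
    obtain ⟨p, hp1, hp2⟩ := Scheme.Pullback.exists_preimage_pullback (f := W.ι) (g := G.t) ⟨u, huW⟩ (G.e u)
      (t_unit G u).symm
    obtain ⟨hdim, hcm⟩ := transport_of_bijective (pullback.snd W.ι G.t) G.s p (G.e u) u hp2 (s_unit G u)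
      (h_unit G u W.ι p hp2) (bijective_sm_of_isOpenImmersion _ _ _ _)
    haveI := isNoetherianRing_fibreRing G.s (G.e u) u (s_unit G u)
    obtain ⟨n, hn⟩ := exists_nat_dim_quot _ _ (fibreIdeal_le G.s (G.e u) u (s_unit G u))
    refine key n W.toScheme inferInstance W.ι inferInstance inferInstance ⟨u, huW⟩ p rfl hp1 hp2
      (hcm.2 (hs _)) (hdim.trans hn) ?_
    have h1 : topologicalKrullDim ↥(G.stabilizerToU.fiber u) ≤ (n : WithBot ℕ∞) := by
      rw [← dim_unit_orbit G u, ← hn]
      exact ringKrullDim_le_of_surjective (Ideal.Quotient.factor le_sup_left)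
        (Ideal.Quotient.factor_surjective le_sup_left)
    rw [hd] at h1
    exact_mod_cast h1
  intro n
  induction n with
  | zero =>
    intro U' hA g hg hgfp u' p hgu hp1 hp2 hcm hdim hle
    refine ⟨U', hA, g, u', p, hg, hgfp, hgu, hp1, hp2, hcm, ?_⟩
    rw [fibreDimAt_slice G u g p hp2, hdim, hd, show d = 0 by omega]
  | succ n ih =>
    intro U' hA g hg hgfp u' p hgu hp1 hp2 hcm hdim hle
    rcases hle.eq_or_lt with heq | hlt
    · refine ⟨U', hA, g, u', p, hg, hgfp, hgu, hp1, hp2, hcm, ?_⟩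
      rw [fibreDimAt_slice G u g p hp2, hdim, hd, heq]
    haveI := hg
    haveI := hgfp
    have horb := (slice_orbit_le G u g u' p hgu hp1 hp2).trans_eq hd
    obtain ⟨V', hV', i, v', q, hqu, hi, hifp, hiv, hq1, hq2, hcm', hdim'⟩ :=
      exists_step (pullback.snd g G.t ≫ G.s) (pullback.fst g G.t) p u u' (h_unit G u g p hp2) hp1 hcm (by
        rw [hdim]
        exact lt_of_le_of_lt horb (by exact_mod_cast hlt))
    haveI := hi
    haveI := hifp
    haveI := hV'
    let Φ := pullbackRightPullbackFstIso g G.t i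
    let p' := Φ.hom q
    have hp1' : pullback.fst (i ≫ g) G.t p' = v' := by
      show pullback.fst (i ≫ g) G.t (Φ.hom q) = v'
      rw [← Scheme.Hom.comp_apply, show Φ.hom ≫ pullback.fst (i ≫ g) G.t = pullback.fst _ _ from
        pullbackRightPullbackFstIso_hom_fst g G.t i, hq1]
    have hp2' : pullback.snd (i ≫ g) G.t p' = G.e u := by
      show pullback.snd (i ≫ g) G.t (Φ.hom q) = G.e u
      rw [← Scheme.Hom.comp_apply, show Φ.hom ≫ pullback.snd (i ≫ g) G.t = pullback.snd _ _ ≫ pullback.snd g G.t from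
        pullbackRightPullbackFstIso_hom_snd g G.t i, Scheme.Hom.comp_apply, hq2, hp2]
    have hcomp : Φ.hom ≫ pullback.snd (i ≫ g) G.t ≫ G.s =
        pullback.snd i (pullback.fst g G.t) ≫ pullback.snd g G.t ≫ G.s := by
      rw [← Category.assoc, show Φ.hom ≫ pullback.snd (i ≫ g) G.t = pullback.snd _ _ ≫ pullback.snd g G.t from
        pullbackRightPullbackFstIso_hom_snd g G.t i, Category.assoc]
    have hq' : (Φ.hom ≫ pullback.snd (i ≫ g) G.t ≫ G.s) q = u := by rw [hcomp]; exact hqu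
    obtain ⟨hd', hc'⟩ := transport_of_bijective Φ.hom (pullback.snd (i ≫ g) G.t ≫ G.s) q p' u rfl
      (h_unit G u (i ≫ g) p' hp2') hq' (bijective_sm_of_isOpenImmersion _ _ _ _)
    rw [fibreIdeal_congr hcomp q u hq' hqu] at hd'
    refine ih V' hV' (i ≫ g) inferInstance inferInstance v' p' (by rw [Scheme.Hom.comp_apply, hiv, hgu])
      hp1' hp2' (hc'.1 (hcomp ▸ hcm')) ?_ (by omega)
    haveI := isNoetherianRing_fibreRing (pullback.snd (i ≫ g) G.t ≫ G.s) p' u (h_unit G u (i ≫ g) p' hp2')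
    obtain ⟨m, hm⟩ := exists_nat_dim_quot _ _
      (fibreIdeal_le (pullback.snd (i ≫ g) G.t ≫ G.s) p' u (h_unit G u (i ≫ g) p' hp2'))
    rw [hm]
    rw [hd', hm, hdim] at hdim'
    have h3 : m + 1 = n + 1 := by exact_mod_cast hdim'
    exact_mod_cast Nat.succ.inj h3

end Groth.Agent.GrpdSlice
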