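import Groth.Agent.FiltExt.Quot
import Mathlib

/-!
# The fibre ring of a slice
-/

set_option autoImplicit false
universe u

open IsLocalRing

namespace Groth.Agent.GrpdSlice

/-- Two successive quotients of a ring commute. -/
theorem nonempty_quot_equiv {O P B : Type u} [CommRing O] [CommRing P] [CommRing B] (ρ : O →+* P) (π : O →+* B)
    (hρ : Function.Surjective ρ) (hπ : Function.Surjective π) :
    Nonempty (P ⧸ (RingHom.ker π).map ρ ≃+* B ⧸ (RingHom.ker ρ).map π) := by
  let α := (Ideal.Quotient.mk ((RingHom.ker π).map ρ)).comp ρ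
  let β := (Ideal.Quotient.mk ((RingHom.ker ρ).map π)).comp π
  have hα : RingHom.ker α = RingHom.ker π ⊔ RingHom.ker ρ := by
    rw [← RingHom.comap_ker, Ideal.mk_ker, Ideal.comap_map_of_surjective' ρ hρ]
  have hβ : RingHom.ker β = RingHom.ker ρ ⊔ RingHom.ker π := by
    rw [← RingHom.comap_ker, Ideal.mk_ker, Ideal.comap_map_of_surjective' π hπ]
  have hαs : Function.Surjective α := Ideal.Quotient.mk_surjective.comp hρ
  have hβs : Function.Surjective β := Ideal.Quotient.mk_surjective.comp hπ
  exact ⟨((RingHom.quotientKerEquivOfSurjective hαs).symm.trans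
    (Ideal.quotEquivOfEq (hα.trans ((sup_comm _ _).trans hβ.symm)))).trans
      (RingHom.quotientKerEquivOfSurjective hβs)⟩

/-- Cutting a Cohen-Macaulay local ring by a regular element. -/
theorem cm_and_dim_quot {B : Type u} [CommRing B] [IsLocalRing B] [IsNoetherianRing B]
    (hB : LocCoh.IsCohenMacaulayLocalRing B) {θ : B} (hm : θ ∈ maximalIdeal B) (hnz : θ ∈ nonZeroDivisors B) :
    LocCoh.IsCohenMacaulayLocalRing (B ⧸ Ideal.span {θ}) ∧
      ringKrullDim (B ⧸ Ideal.span {θ}) + 1 = ringKrullDim B := by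
  haveI := hB
  have hreg : IsSMulRegular B θ := (le_nonZeroDivisors_iff_isRegular.1 (fun _ h => h) ⟨θ, hnz⟩).left.isSMulRegular
  haveI : Nontrivial (B ⧸ Ideal.span {θ}) :=
    Ideal.Quotient.nontrivial_iff.2 fun h => (maximalIdeal.isMaximal B).ne_top
      (top_le_iff.1 (h ▸ (Ideal.span_singleton_le_iff_mem _).2 hm))
  haveI : IsLocalRing (B ⧸ Ideal.span {θ}) := .of_surjective' (Ideal.Quotient.mk _) Ideal.Quotient.mk_surjective
  exact ⟨FiltExt.isCMLocal_quot hm hreg, ringKrullDim_quotient_span_singleton_succ_eq_ringKrullDim hreg hm⟩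

/-- Surjections with the same kernel give the same quotient. -/
theorem nonempty_equiv_of_ker_eq {O P Z : Type u} [CommRing O] [CommRing P] [CommRing Z] (ρ : O →+* P)
    (σ : O →+* Z) (hρ : Function.Surjective ρ) (hσ : Function.Surjective σ)
    (h : RingHom.ker ρ = RingHom.ker σ) : ∃ e : Z ≃+* P, ∀ y, e (σ y) = ρ y := by
  refine ⟨((RingHom.quotientKerEquivOfSurjective hσ).symm.trans (Ideal.quotEquivOfEq h.symm)).trans
    (RingHom.quotientKerEquivOfSurjective hρ), fun y => ?_⟩
  have h1 : (RingHom.quotientKerEquivOfSurjective hσ).symm (σ y) = Ideal.Quotient.mk _ y :=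
    (RingHom.quotientKerEquivOfSurjective hσ).symm_apply_eq.2 rfl
  simp only [RingEquiv.trans_apply, h1, Ideal.quotEquivOfEq_mk]
  rfl

theorem mem_nonZeroDivisors_quot {O B : Type u} [CommRing O] [CommRing B] (π : O →+* B) (I : Ideal O)
    (hI : RingHom.ker π = I) {θ : O} (h : π θ ∈ nonZeroDivisors B) :
    Ideal.Quotient.mk I θ ∈ nonZeroDivisors (O ⧸ I) := by
  subst hI
  have hinj := RingHom.kerLift_injective π
  rw [mem_nonZeroDivisors_iff] at h ⊢
  constructor
  · intro y hy
    apply hinj
    rw [map_zero]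
    exact h.1 _ (by simpa using congrArg (RingHom.kerLift π) hy)
  · intro y hy
    apply hinj
    rw [map_zero]
    exact h.2 _ (by simpa using congrArg (RingHom.kerLift π) hy)

end Groth.Agent.GrpdSlice
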