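import Groth.Agent.GrpdSlice.Kernel
import Groth.Agent.GrpdSlice.Ring
import Groth.Agent.GrpdSlice.Dim
import Groth.Agent.Triage.CMMor
import Groth.Agent.S1348
import Mathlib

/-!
# One slicing step, stated on local rings
-/

set_option autoImplicit false
set_option linter.style.haveILetI false
set_option backward.isDefEq.respectTransparency false
set_option maxHeartbeats 1000000
universe u

open AlgebraicGeometry CategoryTheory CategoryTheory.Limits IsLocalRing

namespace Groth.Agent.GrpdSlice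

open FibFlat Triage

/-- The ideal of the fibre through a point in the local ring upstairs. -/
noncomputable def fibreIdeal {X Y : Scheme.{u}} (f : X ⟶ Y) (x : X) (y : Y) (h : f x = y) :
    Ideal (X.presheaf.stalk x) :=
  (maximalIdeal (Y.presheaf.stalk y)).map (sm f x y h)

theorem fibreIdeal_congr {X Y : Scheme.{u}} {f g : X ⟶ Y} (e : f = g) (x : X) (y : Y) (hf : f x = y)
    (hg : g x = y) : fibreIdeal f x y hf = fibreIdeal g x y hg := by
  subst e; rfl

/-- Transporting fibre rings and Cohen-Macaulayness along a morphism bijective on a local ring. -/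
theorem transport_of_bijective {P Q U : Scheme.{u}} (j : Q ⟶ P) (h : P ⟶ U) (q : Q) (p : P) (u : U)
    (hj : j q = p) (hp : h p = u) (hq : (j ≫ h) q = u) (hb : Function.Bijective (sm j q p hj)) :
    ringKrullDim (Q.presheaf.stalk q ⧸ fibreIdeal (j ≫ h) q u hq) =
        ringKrullDim (P.presheaf.stalk p ⧸ fibreIdeal h p u hp) ∧
      (MoreMor.IsCMAt (j ≫ h) q ↔ MoreMor.IsCMAt h p) := by
  let e := RingEquiv.ofBijective (sm j q p hj) hb
  have hc : sm (j ≫ h) q u hq = (sm j q p hj).comp (sm h p u hp) := sm_factor j h _ rfl q p u hj hp hq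
  let eq : P.presheaf.stalk p ⧸ fibreIdeal h p u hp ≃+* Q.presheaf.stalk q ⧸ fibreIdeal (j ≫ h) q u hq :=
    Ideal.quotientEquiv _ _ e (by rw [fibreIdeal, fibreIdeal, hc, ← Ideal.map_map]; rfl)
  refine ⟨(ringKrullDim_eq_of_ringEquiv eq).symm, ?_⟩
  rw [CMMor.isCMAt_iff_sm (j ≫ h) q u hq, CMMor.isCMAt_iff_sm h p u hp]
  refine and_congr ?_ (CMMor.isCM_congr eq).symm
  rw [hc]
  refine ⟨fun h' => ?_, fun h' => h'.comp (RingHom.Flat.of_bijective hb)⟩
  have : sm h p u hp = e.symm.toRingHom.comp ((sm j q p hj).comp (sm h p u hp)) :=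
    RingHom.ext fun y => (e.symm_apply_apply _).symm
  rw [this]
  exact h'.comp (RingHom.Flat.of_bijective e.symm.bijective)

theorem isNoetherianRing_fibreRing {X Y : Scheme.{u}} (f : X ⟶ Y) [LocallyOfFiniteType f] (x : X) (y : Y)
    (h : f x = y) : IsNoetherianRing (X.presheaf.stalk x ⧸ fibreIdeal f x y h) := by
  haveI : LocallyOfFiniteType (f.fiberToSpecResidueField y) :=
    inferInstanceAs (LocallyOfFiniteType (pullback.snd f (Y.fromSpecResidueField y)))
  exact CMMor.isNoetherianRing_fibre_stalk_sm f x y h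
    (LocallyOfFiniteType.isLocallyNoetherian (f.fiberToSpecResidueField y))

/-- One slicing step: if the fibre of `h` at `p` meets the fibre of `a` in smaller dimension, cut by
one function on the target of `a`. -/
theorem exists_step {P U V : Scheme.{u}} (h : P ⟶ U) [LocallyOfFinitePresentation h] (a : P ⟶ V) (p : P)
    (u : U) (v : V) (hu : h p = u) (hv : a p = v) (hCMh : MoreMor.IsCMAt h p)
    (hdim : ringKrullDim (P.presheaf.stalk p ⧸ (fibreIdeal h p u hu ⊔ fibreIdeal a p v hv)) <
      ringKrullDim (P.presheaf.stalk p ⧸ fibreIdeal h p u hu)) :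
    ∃ (V' : Scheme.{u}) (_ : IsAffine V') (i : V' ⟶ V) (v' : V') (q : ↑(pullback i a))
      (hqu : (pullback.snd i a ≫ h) q = u),
      IsImmersion i ∧ LocallyOfFinitePresentation i ∧ i v' = v ∧ pullback.fst i a q = v' ∧
        pullback.snd i a q = p ∧ MoreMor.IsCMAt (pullback.snd i a ≫ h) q ∧
        ringKrullDim ((pullback i a).presheaf.stalk q ⧸ fibreIdeal (pullback.snd i a ≫ h) q u hqu) + 1 =
          ringKrullDim (P.presheaf.stalk p ⧸ fibreIdeal h p u hu) := by
  haveI := isNoetherianRing_fibreRing h p u hu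
  obtain ⟨hflat, hB⟩ := (CMMor.isCMAt_iff_sm h p u hu).1 hCMh
  let M := fibreIdeal h p u hu
  change LocCoh.IsCohenMacaulayLocalRing (P.presheaf.stalk p ⧸ M) at hB
  haveI := hB
  let π : P.presheaf.stalk p →+* P.presheaf.stalk p ⧸ M := Ideal.Quotient.mk M
  haveI : IsLocalHom π := IsLocalHom.of_surjective _ Ideal.Quotient.mk_surjective
  -- the function
  obtain ⟨W, hW, hvW, -⟩ := exists_isAffineOpen_mem_and_subset (X := V) (x := v) (U := ⊤) trivial
  let Pv := (hW.primeIdealOf ⟨v, hvW⟩).asIdeal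
  let γ := (V.presheaf.germ W v hvW).hom
  have hPm : Pv.map γ = maximalIdeal (V.presheaf.stalk v) := by
    letI := V.presheaf.algebra_section_stalk ⟨v, hvW⟩
    haveI := hW.isLocalization_stalk ⟨v, hvW⟩
    exact IsLocalization.AtPrime.map_eq_maximalIdeal Pv (V.presheaf.stalk v)
  have hJ : ringKrullDim ((P.presheaf.stalk p ⧸ M) ⧸ (fibreIdeal a p v hv).map π) <
      ringKrullDim (P.presheaf.stalk p ⧸ M) := by
    rw [ringKrullDim_eq_of_ringEquiv (DoubleQuot.quotQuotEquivQuotSup M (fibreIdeal a p v hv))]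
    exact hdim
  obtain ⟨c, hcP, hcnz⟩ := exists_nonZeroDivisor ((π.comp (sm a p v hv)).comp γ) Pv (fun Q hQ => by
    rw [← Ideal.map_map, hPm, ← Ideal.map_map]
    exact not_le_of_ass hQ hJ)
  have hγc : γ c ∈ maximalIdeal _ := hPm ▸ Ideal.mem_map_of_mem γ hcP
  let θ := sm a p v hv (γ c)
  have hθm : θ ∈ maximalIdeal _ := map_nonunit (sm a p v hv) _ hγc
  -- the slice
  obtain ⟨v', hv'⟩ := exists_slice_point hW (Ideal.span {c}) v hvW (fun b hb => by
    have : (Ideal.span {c}).map γ ≤ maximalIdeal _ := by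
      rw [Ideal.map_span, Set.image_singleton, Ideal.span_le, Set.singleton_subset_iff]; exact hγc
    exact this (Ideal.mem_map_of_mem γ hb))
  let i := slice hW (Ideal.span {c})
  haveI : LocallyOfFinitePresentation i := locallyOfFinitePresentation_slice hW c
  obtain ⟨q, hq1, hq2⟩ := Scheme.Pullback.exists_preimage_pullback (f := i) (g := a) v' p (hv'.trans hv.symm)
  let h₁ := pullback.snd i a ≫ h
  have hqu : h₁ q = u := by rw [Scheme.Hom.comp_apply, hq2, hu]
  let ρ := sm (pullback.snd i a) q p hq2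
  have hρ : Function.Surjective ρ := surjective_sm _ _ _
  have hkρ : RingHom.ker ρ = Ideal.span {θ} := by
    rw [show RingHom.ker ρ = _ from ker_sm_snd i a q v' p v hq1 hq2 hv' hv,
      ker_sm_slice hW (Ideal.span {c}) v' v hv' hvW, Ideal.map_map, Ideal.map_span, Set.image_singleton]
    rfl
  -- flatness
  have hsm : sm h₁ q u hqu = ρ.comp (sm h p u hu) := sm_factor _ _ h₁ rfl q p u hq2 hu hqu
  have hfl : (sm h₁ q u hqu).Flat := by
    have hfl0 := (sm_flat_iff h p u hu).1 hflat
    have hker : RingHom.ker π = (maximalIdeal _).map (h.stalkMap p).hom := by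
      subst hu
      rw [Ideal.mk_ker]
      show fibreIdeal h p (h p) rfl = _
      rw [fibreIdeal, sm_self]
    obtain ⟨O, hO, hpO, c', hgerm, -, hflO, -⟩ := S1348.result h p hfl0 θ hθm
      (mem_nonZeroDivisors_quot π _ hker hcnz)
    obtain ⟨z, hz⟩ := exists_slice_point hO (Ideal.span {c'}) p hpO (fun b hb => by
      have : (Ideal.span {c'}).map (P.presheaf.germ O p hpO).hom ≤ maximalIdeal _ := by
        rw [Ideal.map_span, Set.image_singleton, Ideal.span_le, Set.singleton_subset_iff, SetLike.mem_coe]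
        exact hgerm ▸ hθm
      exact this (Ideal.mem_map_of_mem _ hb))
    let j := slice hO (Ideal.span {c'})
    have hju : (j ≫ h) z = u := by rw [Scheme.Hom.comp_apply, hz, hu]
    haveI : Flat (j ≫ h) := by
      show Flat ((_ ≫ _) ≫ h)
      rw [Category.assoc]; exact hflO
    have h1 : (sm (j ≫ h) z u hju).Flat := (sm_flat_iff _ _ _ _).2 (Flat.stalkMap (j ≫ h) z)
    rw [sm_factor j h (j ≫ h) rfl z p u hz hu hju] at h1
    have hkσ : RingHom.ker (sm j z p hz) = RingHom.ker ρ := by
      rw [hkρ, ker_sm_slice hO (Ideal.span {c'}) z p hz hpO, Ideal.map_span, Set.image_singleton]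
      exact congrArg (fun x => Ideal.span {x}) hgerm
    obtain ⟨e, he⟩ := nonempty_equiv_of_ker_eq ρ (sm j z p hz) hρ (surjective_sm _ _ _) hkσ.symm
    have h2 : sm h₁ q u hqu = e.toRingHom.comp ((sm j z p hz).comp (sm h p u hu)) := by
      rw [hsm]
      exact RingHom.ext fun y => (he _).symm
    rw [h2]
    exact h1.comp (RingHom.Flat.of_bijective e.bijective)
  -- the fibre ring
  obtain ⟨hCMq, hdimq⟩ := cm_and_dim_quot hB (map_nonunit π _ hθm) hcnz
  have hmap : fibreIdeal h₁ q u hqu = (RingHom.ker π).map ρ := by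
    rw [fibreIdeal, hsm, Ideal.mk_ker, ← Ideal.map_map]; rfl
  obtain ⟨eq1⟩ := nonempty_quot_equiv ρ π hρ Ideal.Quotient.mk_surjective
  let eq : (pullback i a).presheaf.stalk q ⧸ fibreIdeal h₁ q u hqu ≃+*
      (P.presheaf.stalk p ⧸ M) ⧸ Ideal.span {π θ} :=
    ((Ideal.quotEquivOfEq hmap).trans eq1).trans
      (Ideal.quotEquivOfEq (by rw [hkρ, Ideal.map_span, Set.image_singleton]))
  refine ⟨_, inferInstance, i, v', q, hqu, inferInstance, inferInstance, hv', hq1, hq2,
    (CMMor.isCMAt_iff_sm h₁ q u hqu).2 ⟨hfl, CMMor.isCM_of_equiv eq.symm hCMq⟩, ?_⟩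
  show ringKrullDim ((pullback i a).presheaf.stalk q ⧸ fibreIdeal h₁ q u hqu) + 1 = _
  rw [ringKrullDim_eq_of_ringEquiv eq]
  exact hdimq

end Groth.Agent.GrpdSlice
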