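import Groth.Agent.GrpdSlice.Step
import Groth.Agent.GrpdSlice.Dim
import Groth.Agent.ConsPropLib.Fibre
import Mathlib

/-!
# Slices through a unit of a groupoid: dimensions on local rings
-/

set_option autoImplicit false
set_option linter.style.haveILetI false
set_option backward.isDefEq.respectTransparency false
universe u

open AlgebraicGeometry CategoryTheory CategoryTheory.Limits IsLocalRing Grpd

namespace Groth.Agent.GrpdSlice

open FibFlat Triage

variable {S : Scheme.{u}} (G : GroupoidScheme S) (u : G.U)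

theorem s_unit : G.s (G.e u) = u := by
  rw [← Scheme.Hom.comp_apply, G.e_s]; rfl

theorem t_unit : G.t (G.e u) = u := by
  rw [← Scheme.Hom.comp_apply, G.e_t]; rfl

/-- The arrows from `u` to itself near the unit have the dimension of the stabilizer. -/
theorem dim_unit_orbit [LocallyOfFiniteType G.s] [LocallyOfFiniteType G.t]
    [hu : LocallyOfFiniteType (G.U.fromSpecResidueField u)] :
    ringKrullDim (G.R.presheaf.stalk (G.e u) ⧸
        (fibreIdeal G.s (G.e u) u (s_unit G u) ⊔ fibreIdeal G.t (G.e u) u (t_unit G u))) =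
      topologicalKrullDim ↥(G.stabilizerToU.fiber u) := by
  let z0 : Spec (G.U.residueField u) := closedPoint (G.U.residueField u)
  let ιF := G.s.fiberι u
  let σ : Spec (G.U.residueField u) ⟶ G.s.fiber u :=
    pullback.lift (G.U.fromSpecResidueField u ≫ G.e) (𝟙 _) (by rw [Category.assoc, G.e_s]; simp)
  have hσι : σ ≫ ιF = G.U.fromSpecResidueField u ≫ G.e := pullback.lift_fst _ _ _
  let w := σ z0
  have hw : ιF w = G.e u := by
    show ιF (σ z0) = G.e u
    rw [← Scheme.Hom.comp_apply, hσι, Scheme.Hom.comp_apply, Scheme.fromSpecResidueField_apply]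
  let f₂ := ιF ≫ G.t
  have hf₂w : f₂ w = u := by rw [Scheme.Hom.comp_apply, hw, t_unit]
  let σ' : Spec (G.U.residueField u) ⟶ f₂.fiber u :=
    pullback.lift σ (𝟙 _) (by rw [reassoc_of% hσι, G.e_t]; simp)
  let w' := σ' z0
  have hw' : f₂.fiberι u w' = w := by
    show f₂.fiberι u (σ' z0) = σ z0
    rw [← Scheme.Hom.comp_apply, show σ' ≫ f₂.fiberι u = σ from pullback.lift_fst _ _ _]
  haveI : LocallyOfFiniteType f₂ := by
    haveI : LocallyOfFiniteType ιF :=
      inferInstanceAs (LocallyOfFiniteType (pullback.fst G.s (G.U.fromSpecResidueField u)))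
    infer_instance
  haveI : LocallyOfFiniteType (f₂.fiberToSpecResidueField u) :=
    inferInstanceAs (LocallyOfFiniteType (pullback.snd f₂ (G.U.fromSpecResidueField u)))
  rw [← (dim_orbitFibre_aux G u).2 w'
    (isClosed_of_section (G.U.residueField u) (f₂.fiberToSpecResidueField u) σ' (pullback.lift_snd _ _ _) z0),
    ← ringKrullDim_eq_of_ringEquiv (CMMor.exists_equiv_fibre_stalk_aux f₂ w u hf₂w w' hw').some]
  let B := (G.s.fiber u).presheaf.stalk w
  let π : G.R.presheaf.stalk (G.e u) →+* B := sm ιF w (G.e u) hw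
  have hπ : Function.Surjective π := surjective_sm _ _ _
  have hkπ : RingHom.ker π = fibreIdeal G.s (G.e u) u (s_unit G u) := by
    rw [show RingHom.ker π = _ from ker_sm_fiberι G.s u w (G.e u) hw]
    have : ∀ (y : G.U) (h : G.s (G.e u) = y), (maximalIdeal _).map (sm G.s (G.e u) (G.s (G.e u)) rfl) =
        fibreIdeal G.s (G.e u) y h := by rintro y rfl; rfl
    exact this u _
  have hJ : (maximalIdeal _).map (sm f₂ w u hf₂w) = (fibreIdeal G.t (G.e u) u (t_unit G u)).map π := by
    rw [fibreIdeal, Ideal.map_map, sm_factor ιF G.t f₂ rfl w (G.e u) u hw (t_unit G u) hf₂w]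
  let β := (Ideal.Quotient.mk ((maximalIdeal _).map (sm f₂ w u hf₂w))).comp π
  have hβ : RingHom.ker β = fibreIdeal G.s (G.e u) u (s_unit G u) ⊔ fibreIdeal G.t (G.e u) u (t_unit G u) := by
    rw [← RingHom.comap_ker, Ideal.mk_ker, hJ, Ideal.comap_map_of_surjective' π hπ, hkπ, sup_comm]
  exact ringKrullDim_eq_of_ringEquiv ((Ideal.quotEquivOfEq hβ.symm).trans
    (RingHom.quotientKerEquivOfSurjective (Ideal.Quotient.mk_surjective.comp hπ)))

variable {U' : Scheme.{u}} (g : U' ⟶ G.U) [IsPreimmersion g] (u' : U') (p : ↑(pullback g G.t))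

theorem h_unit (hp2 : pullback.snd g G.t p = G.e u) : (pullback.snd g G.t ≫ G.s) p = u := by
  rw [Scheme.Hom.comp_apply, hp2, s_unit]

/-- The local dimension of the fibre of a slice at the unit. -/
theorem fibreDimAt_slice [LocallyOfFiniteType G.s] [LocallyOfFiniteType g]
    [hu : LocallyOfFiniteType (G.U.fromSpecResidueField u)] (hp2 : pullback.snd g G.t p = G.e u) :
    FlatMor.fibreDimAt (pullback.snd g G.t ≫ G.s) p =
      ringKrullDim ((pullback g G.t).presheaf.stalk p ⧸
        fibreIdeal (pullback.snd g G.t ≫ G.s) p u (h_unit G u g p hp2)) := by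
  let h := pullback.snd g G.t ≫ G.s
  have hpu : h p = u := h_unit G u g p hp2
  let z0 : Spec (G.U.residueField u) := closedPoint (G.U.residueField u)
  let ιF := G.s.fiberι u
  let σ : Spec (G.U.residueField u) ⟶ G.s.fiber u :=
    pullback.lift (G.U.fromSpecResidueField u ≫ G.e) (𝟙 _) (by rw [Category.assoc, G.e_s]; simp)
  let w := σ z0
  have hw : ιF w = G.e u := by
    show ιF (σ z0) = G.e u
    rw [← Scheme.Hom.comp_apply,
      show σ ≫ ιF = G.U.fromSpecResidueField u ≫ G.e from pullback.lift_fst _ _ _,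
      Scheme.Hom.comp_apply, Scheme.fromSpecResidueField_apply]
  haveI : LocallyOfFiniteType (G.s.fiberToSpecResidueField u) :=
    inferInstanceAs (LocallyOfFiniteType (pullback.snd G.s (G.U.fromSpecResidueField u)))
  have hwc : IsClosed ({w} : Set ↥(G.s.fiber u)) :=
    isClosed_of_section (G.U.residueField u) (G.s.fiberToSpecResidueField u) σ (pullback.lift_snd _ _ _) z0
  obtain ⟨wp, hwp⟩ : p ∈ Set.range (h.fiberι u) := by rw [Scheme.Hom.range_fiberι]; exact hpu
  let k := MoreMor.fiberMap (pullback.snd g G.t) G.s u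
  have hk : ∀ v, ιF (k v) = pullback.snd g G.t (h.fiberι u v) := fun v => by
    rw [← Scheme.Hom.comp_apply, show k ≫ ιF = _ from ConsPropLib.fiberMap_comp_ι _ _ _, Scheme.Hom.comp_apply]
  have hwpc : IsClosed ({wp} : Set ↥(h.fiber u)) := by
    have : ({wp} : Set ↥(h.fiber u)) = k ⁻¹' {w} := by
      ext v
      simp only [Set.mem_singleton_iff, Set.mem_preimage]
      constructor
      · rintro rfl
        apply ιF.isEmbedding.injective
        rw [hk, hwp, hp2, hw]
      · intro hv
        apply (h.fiberι u).isEmbedding.injective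
        apply (pullback.snd g G.t).isEmbedding.injective
        rw [← hk, hv, hw, hwp, hp2]
    rw [this]
    exact hwc.preimage k.continuous
  rw [fibreDimAt_eq h p u hpu wp hwp hwpc]
  exact ringKrullDim_eq_of_ringEquiv (CMMor.exists_equiv_fibre_stalk_aux h p u hpu wp hwp).some.symm

/-- On a slice the arrows from `u'` to itself have at most the dimension of the stabilizer. -/
theorem slice_orbit_le [LocallyOfFiniteType G.s] [LocallyOfFiniteType G.t]
    [hu : LocallyOfFiniteType (G.U.fromSpecResidueField u)] (hgu : g u' = u)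
    (hp1 : pullback.fst g G.t p = u') (hp2 : pullback.snd g G.t p = G.e u) :
    ringKrullDim ((pullback g G.t).presheaf.stalk p ⧸
        (fibreIdeal (pullback.snd g G.t ≫ G.s) p u (h_unit G u g p hp2) ⊔
          fibreIdeal (pullback.fst g G.t) p u' hp1)) ≤
      topologicalKrullDim ↥(G.stabilizerToU.fiber u) := by
  rw [← dim_unit_orbit G u]
  let ρ := sm (pullback.snd g G.t) p (G.e u) hp2
  have hρ : Function.Surjective ρ := surjective_sm _ _ _
  have h1 : (fibreIdeal G.s (G.e u) u (s_unit G u)).map ρ =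
      fibreIdeal (pullback.snd g G.t ≫ G.s) p u (h_unit G u g p hp2) := by
    rw [fibreIdeal, Ideal.map_map, ← sm_factor (pullback.snd g G.t) G.s _ rfl p (G.e u) u hp2 (s_unit G u)
      (h_unit G u g p hp2)]
    rfl
  have hgp : (pullback.fst g G.t ≫ g) p = u := by rw [Scheme.Hom.comp_apply, hp1, hgu]
  have hm : (maximalIdeal _).map (sm g u' u hgu) = maximalIdeal _ :=
    IsLocalRing.map_maximalIdeal_of_surjective _ (surjective_sm _ _ _)
  have h2 : (fibreIdeal G.t (G.e u) u (t_unit G u)).map ρ = fibreIdeal (pullback.fst g G.t) p u' hp1 := by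
    rw [fibreIdeal, Ideal.map_map, ← sm_factor (pullback.snd g G.t) G.t (pullback.fst g G.t ≫ g)
      pullback.condition p (G.e u) u hp2 (t_unit G u) hgp,
      sm_factor (pullback.fst g G.t) g (pullback.fst g G.t ≫ g) rfl p u' u hp1 hgu hgp, ← Ideal.map_map, hm]
    rfl
  let β := (Ideal.Quotient.mk (fibreIdeal (pullback.snd g G.t ≫ G.s) p u (h_unit G u g p hp2) ⊔
    fibreIdeal (pullback.fst g G.t) p u' hp1)).comp ρ
  refine ringKrullDim_le_of_surjective (Ideal.Quotient.lift _ β fun y hy => ?_)
    (Ideal.Quotient.lift_surjective_of_surjective _ _ (Ideal.Quotient.mk_surjective.comp hρ))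
  refine Ideal.Quotient.eq_zero_iff_mem.2 ?_
  rw [← h1, ← h2, ← Ideal.map_sup]
  exact Ideal.mem_map_of_mem _ hy

end Groth.Agent.GrpdSlice
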